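import Mathlib.RingTheory.Spectrum.Maximal.Topology
import Mathlib.Topology.NoetherianSpace
import Mathlib.Topology.Sets.Closeds
import Mathlib.Order.KrullDimension
import Mathlib.LinearAlgebra.Matrix.NonsingularInverse
import Mathlib.LinearAlgebra.Dimension.Finite
import Mathlib.LinearAlgebra.Basis.VectorSpace
import Mathlib.LinearAlgebra.FiniteDimensional.Lemmas
import Mathlib.RingTheory.Ideal.Quotient.Operations

/-!
# Serre's splitting proposition
-/

set_option autoImplicit false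

universe u

namespace GrothLib.SerreSplit

variable {R : Type u} [CommRing R] {M : Type u} [AddCommGroup M] [Module R M]

/-- The elements killed at `x` by all linear forms. -/
def Null (x : MaximalSpectrum R) : Submodule R M := ⨅ φ : M →ₗ[R] R, Submodule.comap φ x.asIdeal

theorem mem_Null {x : MaximalSpectrum R} {m : M} : m ∈ Null x ↔ ∀ φ : M →ₗ[R] R, φ m ∈ x.asIdeal := by
  simp [Null]

theorem smul_le_Null (x : MaximalSpectrum R) : x.asIdeal • (⊤ : Submodule R M) ≤ Null x := by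
  refine Submodule.smul_le.2 fun r hr m _ => mem_Null.2 fun φ => ?_
  rw [map_smul, smul_eq_mul]
  exact x.asIdeal.mul_mem_right _ hr

/-- Independence modulo `Null x`. -/
def Indep {ι : Type} [Fintype ι] (x : MaximalSpectrum R) (s : ι → M) : Prop :=
  ∀ c : ι → R, ∑ i, c i • s i ∈ Null x → ∀ i, c i ∈ x.asIdeal

theorem Indep.exists_forms {ι : Type} [Fintype ι] [DecidableEq ι] {x : MaximalSpectrum R} {s : ι → M}
    (h : Indep x s) : ∃ φ : ι → (M →ₗ[R] R), (Matrix.of fun i j => φ i (s j)).det ∉ x.asIdeal := by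
  have := x.isMaximal
  let _ : Field (R ⧸ x.asIdeal) := Ideal.Quotient.field _
  let q := Ideal.Quotient.mk x.asIdeal
  let w : (M →ₗ[R] R) → (ι → R ⧸ x.asIdeal) := fun φ j => q (φ (s j))
  have htop : Submodule.span (R ⧸ x.asIdeal) (Set.range w) = ⊤ := by
    by_contra hne
    obtain ⟨f, hf0, hf⟩ := Submodule.exists_le_ker_of_lt_top _ (lt_top_iff_ne_top.2 hne)
    have hc : ∀ j, ∃ c : R, q c = f (fun l => if j = l then 1 else 0) := fun j =>
      Ideal.Quotient.mk_surjective _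
    choose c hc using hc
    have hsum : ∑ j, c j • s j ∈ Null x := by
      refine mem_Null.2 fun φ => ?_
      rw [← Ideal.Quotient.eq_zero_iff_mem, map_sum, map_sum]
      have h0 : f (w φ) = 0 := LinearMap.mem_ker.1 (hf (Submodule.subset_span ⟨φ, rfl⟩))
      rw [LinearMap.pi_apply_eq_sum_univ f (w φ)] at h0
      refine Eq.trans (Finset.sum_congr rfl fun j _ => ?_) h0
      rw [map_smul, smul_eq_mul, map_mul]
      change q (c j) * q (φ (s j)) = q (φ (s j)) • _
      rw [hc, smul_eq_mul, mul_comm]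
    refine hf0 (LinearMap.ext fun v => ?_)
    rw [LinearMap.pi_apply_eq_sum_univ f v, LinearMap.zero_apply]
    exact Finset.sum_eq_zero fun j _ => by
      rw [← hc, Ideal.Quotient.eq_zero_iff_mem.2 (h c hsum j), smul_zero]
  obtain ⟨b, hb, hspan, hli⟩ := exists_linearIndependent (R ⧸ x.asIdeal) (Set.range w)
  rw [htop] at hspan
  let B : Module.Basis b (R ⧸ x.asIdeal) (ι → R ⧸ x.asIdeal) :=
    Module.Basis.mk hli (by rw [Subtype.range_coe]; exact hspan.ge)
  let e : ι ≃ b := (Pi.basisFun (R ⧸ x.asIdeal) ι).indexEquiv B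
  choose φ hφ using fun i => hb (e i).2
  refine ⟨φ, fun hdet => ?_⟩
  have hU : IsUnit ((Matrix.of fun i j => φ i (s j)).map q) := by
    rw [← Matrix.linearIndependent_rows_iff_isUnit]
    have : ((Matrix.of fun i j => φ i (s j)).map q).row = fun i => ((e i : b) : ι → R ⧸ x.asIdeal) :=
      funext fun i => by rw [← hφ i]; rfl
    rw [this]
    exact hli.comp e e.injective
  rw [Matrix.isUnit_iff_isUnit_det, ← RingHom.mapMatrix_apply, ← RingHom.map_det,
    Ideal.Quotient.eq_zero_iff_mem.2 hdet] at hU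
  exact not_isUnit_zero hU

theorem indep_of_det {ι : Type} [Fintype ι] [DecidableEq ι] {y : MaximalSpectrum R} {s : ι → M}
    (φ : ι → (M →ₗ[R] R)) (hdet : (Matrix.of fun i j => φ i (s j)).det ∉ y.asIdeal) : Indep y s := by
  intro c hc j
  let N := Matrix.of fun i j => φ i (s j)
  have h1 : ∀ i, Matrix.mulVec N c i ∈ y.asIdeal := fun i => by
    have := mem_Null.1 hc (φ i)
    rw [map_sum] at this
    convert this using 1
    simp [Matrix.mulVec, dotProduct, N, map_smul, mul_comm]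
  have h2 : Matrix.mulVec N.adjugate (Matrix.mulVec N c) j = N.det * c j := by
    rw [Matrix.mulVec_mulVec, Matrix.adjugate_mul, Matrix.smul_mulVec, Matrix.one_mulVec]
    rfl
  have h3 : N.det * c j ∈ y.asIdeal := by
    rw [← h2]
    exact Submodule.sum_mem _ fun i _ => y.asIdeal.mul_mem_left _ (h1 i)
  exact (y.isMaximal.isPrime.mem_or_mem h3).resolve_left hdet

theorem isClosed_dependent {ι : Type} [Fintype ι] [DecidableEq ι] (s : ι → M) :
    IsClosed {x : MaximalSpectrum R | ¬ Indep x s} := by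
  refine ⟨?_⟩
  rw [isOpen_iff_forall_mem_open]
  intro x hx
  obtain ⟨φ, hφ⟩ := (not_not.1 hx).exists_forms
  refine ⟨MaximalSpectrum.toPrimeSpectrum ⁻¹'
      (PrimeSpectrum.basicOpen (Matrix.of fun i j => φ i (s j)).det : Set (PrimeSpectrum R)),
    fun y hy => not_not.2 (indep_of_det φ hy), ?_, hφ⟩
  exact (PrimeSpectrum.basicOpen _).2.preimage MaximalSpectrum.toPrimeSpectrum_continuous

theorem Indep.snoc_congr {n : ℕ} {x : MaximalSpectrum R} {s : Fin n → M} {a b : M}
    (h : Indep x (Fin.snoc s a : Fin (n + 1) → M)) (hab : b - a ∈ Null x) :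
    Indep x (Fin.snoc s b : Fin (n + 1) → M) := by
  intro c hc
  refine h c ?_
  have e : ∑ i, c i • (Fin.snoc s a : Fin (n + 1) → M) i =
      ∑ i, c i • (Fin.snoc s b : Fin (n + 1) → M) i - c (Fin.last n) • (b - a) := by
    simp only [Fin.sum_univ_castSucc, Fin.snoc_castSucc, Fin.snoc_last, smul_sub]
    abel
  rw [e]
  exact sub_mem hc (Submodule.smul_mem _ _ hab)

theorem Indep.snoc_add {n : ℕ} {x : MaximalSpectrum R} {s : Fin n → M} {a u : M} (f : R)
    (h : Indep x (Fin.snoc (Fin.snoc s a : Fin (n + 1) → M) u : Fin (n + 1 + 1) → M)) :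
    Indep x (Fin.snoc s (a + f • u) : Fin (n + 1) → M) := by
  intro c hc
  have key := h (Fin.snoc c (c (Fin.last n) * f)) (by
    convert hc using 1
    simp only [Fin.sum_univ_castSucc, Fin.snoc_castSucc, Fin.snoc_last, smul_add, smul_smul]
    abel)
  intro i
  simpa using key i.castSucc

theorem exists_value (T : Finset (MaximalSpectrum R)) (m : MaximalSpectrum R → M) :
    ∃ t : M, ∀ x ∈ T, t - m x ∈ Null x := by
  classical
  have hco : Pairwise (Function.onFun IsCoprime fun x : T => (x : MaximalSpectrum R).asIdeal) :=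
    fun a b hab => Ideal.isCoprime_iff_sup_eq.2
      (a.1.isMaximal.coprime_of_ne b.1.isMaximal fun h => hab (Subtype.ext (MaximalSpectrum.ext h)))
  choose f hf using fun a : T => Ideal.exists_forall_sub_mem_ideal hco (fun b : T => if b = a then 1 else 0)
  refine ⟨∑ a : T, f a • m a, fun x hx => smul_le_Null x ?_⟩
  have e : (∑ a : T, f a • m a) - m x = ∑ a : T, (f a - if (⟨x, hx⟩ : T) = a then 1 else 0) • m a := by
    rw [eq_comm]
    simp [sub_smul, Finset.sum_sub_distrib]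
  rw [e]
  exact Submodule.sum_mem _ fun a _ => Submodule.smul_mem_smul (hf a ⟨x, hx⟩) Submodule.mem_top

theorem exists_scalar (T U : Finset (MaximalSpectrum R)) (hd : ∀ x ∈ T, x ∉ U) :
    ∃ f : R, (∀ x ∈ T, f ∈ x.asIdeal) ∧ ∀ x ∈ U, f - 1 ∈ x.asIdeal := by
  classical
  have hco : Pairwise (Function.onFun IsCoprime fun x : (T ∪ U : Finset _) => (x : MaximalSpectrum R).asIdeal) :=
    fun a b hab => Ideal.isCoprime_iff_sup_eq.2
      (a.1.isMaximal.coprime_of_ne b.1.isMaximal fun h => hab (Subtype.ext (MaximalSpectrum.ext h)))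
  obtain ⟨f, hf⟩ := Ideal.exists_forall_sub_mem_ideal hco (fun x => if (x : MaximalSpectrum R) ∈ U then 1 else 0)
  refine ⟨f, fun x hx => ?_, fun x hx => ?_⟩
  · simpa [hd x hx] using hf ⟨x, Finset.mem_union_left _ hx⟩
  · simpa [hx] using hf ⟨x, Finset.mem_union_right _ hx⟩

variable [TopologicalSpace.NoetherianSpace (MaximalSpectrum R)]

theorem exists_components (G F : Set (MaximalSpectrum R)) (hG : IsClosed G) :
    ∃ S : Finset (TopologicalSpace.IrreducibleCloseds (MaximalSpectrum R)),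
      (∀ Z ∈ S, (Z : Set (MaximalSpectrum R)) ⊆ G ∧ ¬ (Z : Set (MaximalSpectrum R)) ⊆ F) ∧
      ∀ x ∈ G, x ∉ F → ∃ Z ∈ S, x ∈ (Z : Set (MaximalSpectrum R)) := by
  classical
  obtain ⟨S, hS, hGS⟩ := TopologicalSpace.NoetherianSpace.exists_finset_irreducible ⟨G, hG⟩
  have hG' : G = ⋃ Z ∈ S, (Z : Set (MaximalSpectrum R)) := by
    have := congrArg (fun C : TopologicalSpace.Closeds (MaximalSpectrum R) => (C : Set (MaximalSpectrum R))) hGS
    simpa [TopologicalSpace.Closeds.coe_finset_sup, Finset.sup_set_eq_biUnion] using this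
  let mkI : (↥(S.filter fun Z : TopologicalSpace.Closeds (MaximalSpectrum R) => ¬ (Z : Set (MaximalSpectrum R)) ⊆ F)) →
      TopologicalSpace.IrreducibleCloseds (MaximalSpectrum R) :=
    fun Z => ⟨(Z.1 : Set (MaximalSpectrum R)), hS ⟨Z.1, (Finset.mem_filter.1 Z.2).1⟩, Z.1.isClosed⟩
  refine ⟨Finset.univ.image mkI, fun Z hZ => ?_, fun x hx hxF => ?_⟩
  · obtain ⟨⟨C, hC⟩, -, rfl⟩ := Finset.mem_image.1 hZ
    obtain ⟨hC1, hC2⟩ := Finset.mem_filter.1 hC
    exact ⟨fun y hy => hG'.ge (Set.mem_iUnion₂.2 ⟨C, hC1, hy⟩), hC2⟩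
  · rw [hG'] at hx
    obtain ⟨C, hC, hxC⟩ := Set.mem_iUnion₂.1 hx
    exact ⟨mkI ⟨C, Finset.mem_filter.2 ⟨hC, fun h => hxF (h hxC)⟩⟩, Finset.mem_image_of_mem _ (Finset.mem_univ _), hxC⟩

/-- The main induction. -/
theorem main : ∀ (k h : ℕ) (s : Fin h → M) (F : Set (MaximalSpectrum R)), IsClosed F →
    ∀ (T : Finset (MaximalSpectrum R)) (m : MaximalSpectrum R → M), (↑T : Set (MaximalSpectrum R)) ⊆ F →
      (∀ (x : MaximalSpectrum R) (h' : ℕ) (a : Fin h' → M), h' < h + k → Indep x a →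
        ∃ w : M, Indep x (Fin.snoc a w : Fin (h' + 1) → M)) →
      (∀ x, ¬ Indep x s → x ∈ F) →
      ∃ (t : M) (F' : Set (MaximalSpectrum R)), IsClosed F' ∧ (∀ x ∈ T, t - m x ∈ Null x) ∧
        (∀ x, ¬ Indep x (Fin.snoc s t : Fin (h + 1) → M) → x ∈ F ∪ F') ∧
        ∀ Z : TopologicalSpace.IrreducibleCloseds (MaximalSpectrum R), (Z : Set (MaximalSpectrum R)) ⊆ F' →
          (k : ℕ∞) ≤ Order.coheight Z
  | 0, h, s, F, _, T, m, _, _, _ => by
    obtain ⟨t, ht⟩ := exists_value T m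
    exact ⟨t, Set.univ, isClosed_univ, ht, fun x _ => Or.inr trivial, fun Z _ => by simp⟩
  | k + 1, h, s, F, hF, T, m, hTF, hrk, hs => by
    classical
    obtain ⟨t₀, G, hG, ht₀, hsG, hGk⟩ :=
      main k h s F hF T m hTF (fun x h' a hh => hrk x h' a (by omega)) hs
    obtain ⟨S₁, hS₁, hcov₁⟩ := exists_components G F hG
    choose z hzZ hzF using fun Z : S₁ => Set.not_subset.1 (hS₁ Z.1 Z.2).2
    let U : Finset (MaximalSpectrum R) := Finset.univ.image z
    have hμ : ∀ x, ∃ w : M, x ∉ F → Indep x (Fin.snoc s w : Fin (h + 1) → M) := fun x => by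
      by_cases hx : x ∈ F
      · exact ⟨0, fun h' => absurd hx h'⟩
      · obtain ⟨w, hw⟩ := hrk x h s (by omega) (by by_contra h'; exact hx (hs x h'))
        exact ⟨w, fun _ => hw⟩
    choose μ hμ using hμ
    have hUG : ∀ x ∈ U, x ∈ G ∧ x ∉ F := by
      intro x hx
      obtain ⟨Z, -, rfl⟩ := Finset.mem_image.1 hx
      exact ⟨(hS₁ Z.1 Z.2).1 (hzZ Z), hzF Z⟩
    obtain ⟨u, G', hG', hu, hsG', hG'k⟩ :=
      main k (h + 1) (Fin.snoc s t₀) (F ∪ G) (hF.union hG) U (fun x => μ x - t₀)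
        (fun x hx => Or.inr (hUG x hx).1) (fun x h' a hh => hrk x h' a (by omega)) hsG
    obtain ⟨S₂, hS₂, hcov₂⟩ := exists_components G' (F ∪ G) hG'
    choose z' hz'Z hz'F using fun Z : S₂ => Set.not_subset.1 (hS₂ Z.1 Z.2).2
    let U' : Finset (MaximalSpectrum R) := Finset.univ.image z'
    obtain ⟨f, hf0, hf1⟩ := exists_scalar (T ∪ U') U (by
      intro x hx hxU
      rcases Finset.mem_union.1 hx with hx | hx
      · exact (hUG x hxU).2 (hTF hx)
      · obtain ⟨Z, -, rfl⟩ := Finset.mem_image.1 hx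
        exact hz'F Z (Or.inr (hUG _ hxU).1))
    let t := t₀ + f • u
    let D : Set (MaximalSpectrum R) := {x | ¬ Indep x (Fin.snoc s t : Fin (h + 1) → M)}
    have hD : IsClosed D := isClosed_dependent _
    have hfu : ∀ x, f ∈ x.asIdeal → f • u ∈ Null x := fun x hx =>
      smul_le_Null x (Submodule.smul_mem_smul hx Submodule.mem_top)
    have hz : ∀ Z : S₁, z Z ∉ D := fun Z => by
      have hmem : z Z ∈ U := Finset.mem_image_of_mem _ (Finset.mem_univ _)
      refine not_not.2 ((hμ _ (hzF Z)).snoc_congr ?_)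
      have e : t - μ (z Z) = (u - (μ (z Z) - t₀)) + (f - 1) • u := by
        simp only [t, sub_smul, one_smul]; abel
      rw [e]
      exact add_mem (hu _ hmem) (smul_le_Null _ (Submodule.smul_mem_smul (hf1 _ hmem) Submodule.mem_top))
    have hz' : ∀ Z : S₂, z' Z ∉ D := fun Z => by
      refine not_not.2 (Indep.snoc_congr (a := t₀) ?_ ?_)
      · by_contra h'
        exact hz'F Z (hsG _ h')
      · rw [add_sub_cancel_left]
        exact hfu _ (hf0 _ (Finset.mem_union_right _ (Finset.mem_image_of_mem _ (Finset.mem_univ _))))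
    refine ⟨t, ⋃ Z ∈ S₁ ∪ S₂, (Z : Set (MaximalSpectrum R)) ∩ D,
      Set.Finite.isClosed_biUnion (Finset.finite_toSet _) fun Z _ => Z.isClosed.inter hD, fun x hx => ?_,
      fun x hx => ?_, fun Z' hZ' => ?_⟩
    · have e : t - m x = (t₀ - m x) + f • u := by simp only [t]; abel
      rw [e]
      exact add_mem (ht₀ x hx) (hfu x (hf0 x (Finset.mem_union_left _ hx)))
    · by_cases hxF : x ∈ F
      · exact Or.inl hxF
      refine Or.inr (Set.mem_iUnion₂.2 ?_)
      by_cases hxG : x ∈ G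
      · obtain ⟨Z, hZ, hxZ⟩ := hcov₁ x hxG hxF
        exact ⟨Z, Finset.mem_union_left _ hZ, hxZ, hx⟩
      · have hxG' : x ∈ G' := by
          by_contra h'
          refine hx (Indep.snoc_add f ?_)
          by_contra h''
          rcases hsG' x h'' with h3 | h3
          · exact h3.elim hxF hxG
          · exact h' h3
        obtain ⟨Z, hZ, hxZ⟩ := hcov₂ x hxG' (fun h' => h'.elim hxF hxG)
        exact ⟨Z, Finset.mem_union_right _ hZ, hxZ, hx⟩
    · obtain ⟨C, hC, hZC⟩ := isIrreducible_iff_sUnion_isClosed.1 Z'.isIrreducible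
        ((S₁ ∪ S₂).image fun Z : TopologicalSpace.IrreducibleCloseds (MaximalSpectrum R) =>
          (Z : Set (MaximalSpectrum R)) ∩ D)
        (fun C hC => by
          obtain ⟨Z, -, rfl⟩ := Finset.mem_image.1 hC
          exact Z.isClosed.inter hD)
        (fun x hx => by
          obtain ⟨Z, hZ, hxZ⟩ := Set.mem_iUnion₂.1 (hZ' hx)
          exact Set.mem_sUnion.2 ⟨_, Finset.mem_coe.2 (Finset.mem_image_of_mem _ hZ), hxZ⟩)
      obtain ⟨Z, hZ, rfl⟩ := Finset.mem_image.1 hC
      have hzD : ∃ p ∈ (Z : Set (MaximalSpectrum R)), p ∉ D ∧ (k : ℕ∞) ≤ Order.coheight Z := by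
        rcases Finset.mem_union.1 hZ with hZ | hZ
        · exact ⟨_, hzZ ⟨Z, hZ⟩, hz ⟨Z, hZ⟩, hGk Z (hS₁ Z hZ).1⟩
        · exact ⟨_, hz'Z ⟨Z, hZ⟩, hz' ⟨Z, hZ⟩, hG'k Z (hS₂ Z hZ).1⟩
      obtain ⟨p, hp, hpD, hk⟩ := hzD
      have hlt : Z' < Z := by
        refine lt_of_le_of_ne (fun x hx => (hZC hx).1) ?_
        rintro rfl
        exact hpD (hZC hp).2
      calc ((k + 1 : ℕ) : ℕ∞) = (k : ℕ∞) + 1 := by push_cast; rfl
        _ ≤ Order.coheight Z + 1 := add_le_add_left hk 1
        _ ≤ Order.coheight Z' := Order.coheight_add_one_le hlt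

end GrothLib.SerreSplit
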