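import Groth.Agent.Lib.SerreSplit.Basic
import Mathlib.Algebra.Module.Projective
import Mathlib.Algebra.Module.StablyFree.Basic
import Mathlib.Algebra.Module.LocalizedModule.Basic
import Mathlib.Algebra.DirectSum.Module
import Mathlib.LinearAlgebra.Projection
import Mathlib.RingTheory.Localization.AtPrime.Basic
import Mathlib.RingTheory.Noetherian.Basic
import Mathlib.RingTheory.Jacobson.Ideal

/-!
# Projective modules of infinite rank (Bass)
-/

set_option autoImplicit false

universe u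

namespace GrothLib.SerreSplit

variable {R : Type u} [CommRing R]

/-- Nowhere finitely generated modulo the elements killed by all forms. -/
def NF (R : Type u) [CommRing R] (Q : Type u) [AddCommGroup Q] [Module R Q] : Prop :=
  ∀ (x : MaximalSpectrum R) (B : Finset Q), Null x ⊔ Submodule.span R (B : Set Q) ≠ (⊤ : Submodule R Q)

variable {Q : Type u} [AddCommGroup Q] [Module R Q]

theorem map_Null_le {N : Type u} [AddCommGroup N] [Module R N] (f : Q →ₗ[R] N) (x : MaximalSpectrum R) :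
    (Null x).map f ≤ Null x := by
  rintro _ ⟨m, hm, rfl⟩
  exact mem_Null.2 fun φ => mem_Null.1 hm (φ ∘ₗ f)

theorem NF.of_surjective {N : Type u} [AddCommGroup N] [Module R N] (h : NF R N) (f : Q →ₗ[R] N)
    (hf : Function.Surjective f) : NF R Q := by
  classical
  intro x B htop
  refine h x (B.image f) (eq_top_iff.2 ?_)
  rw [← LinearMap.range_eq_top.2 hf, ← Submodule.map_top, ← htop, Submodule.map_sup, Submodule.map_span,
    Finset.coe_image]
  exact sup_le_sup_right (map_Null_le f x) _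

theorem NF.of_isCompl (h : NF R Q) {K C : Submodule R Q} (hc : IsCompl K C) [Module.Finite R K] : NF R C := by
  classical
  intro x B htop
  obtain ⟨g, hg⟩ := (Module.Finite.iff_fg.1 ‹Module.Finite R K›)
  refine h x (B.image C.subtype ∪ g) (eq_top_iff.2 ?_)
  rw [← hc.sup_eq_top, Finset.coe_union, Submodule.span_union, hg]
  refine sup_le (le_sup_right.trans le_sup_right) ?_
  have hC : C = (Null x ⊔ Submodule.span R (B : Set C)).map C.subtype := by rw [htop, C.map_subtype_top]
  refine hC.le.trans ?_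
  rw [Submodule.map_sup, Submodule.map_span, Finset.coe_image]
  exact sup_le ((map_Null_le _ x).trans le_sup_left) (le_sup_left.trans le_sup_right)

section Noeth

variable [IsNoetherianRing (R ⧸ (⊥ : Ideal R).jacobson)]

theorem isNoetherian_quot : IsNoetherian R (R ⧸ (⊥ : Ideal R).jacobson) := by
  refine ⟨fun s => ?_⟩
  obtain ⟨t, ht⟩ := IsNoetherian.noetherian (Submodule.span (R ⧸ (⊥ : Ideal R).jacobson) (s : Set (R ⧸ (⊥ : Ideal R).jacobson)))
  refine ⟨t, ?_⟩
  rw [← Submodule.restrictScalars_span R (R ⧸ (⊥ : Ideal R).jacobson) Ideal.Quotient.mk_surjective, ht,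
    Submodule.restrictScalars_span R (R ⧸ (⊥ : Ideal R).jacobson) Ideal.Quotient.mk_surjective, Submodule.span_eq]

theorem jacobson_le (x : MaximalSpectrum R) : (⊥ : Ideal R).jacobson ≤ x.asIdeal :=
  sInf_le ⟨bot_le, x.isMaximal⟩

theorem mk_mem_map_iff (x : MaximalSpectrum R) (r : R) :
    Ideal.Quotient.mk (⊥ : Ideal R).jacobson r ∈ x.asIdeal.map (Ideal.Quotient.mk (⊥ : Ideal R).jacobson) ↔
      r ∈ x.asIdeal := by
  refine ⟨fun h => ?_, Ideal.mem_map_of_mem _⟩
  obtain ⟨s, hs, e⟩ := (Ideal.mem_map_iff_of_surjective _ Ideal.Quotient.mk_surjective).1 h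
  have := sub_mem hs (jacobson_le x ((Ideal.Quotient.eq).1 e))
  simpa using this

theorem exists_finite_forms (m : Q) : ∃ (n : ℕ) (φ : Fin n → (Q →ₗ[R] R)),
    ∀ x : MaximalSpectrum R, (∀ i, φ i m ∈ x.asIdeal) → m ∈ Null x := by
  have := isNoetherian_quot (R := R)
  let J := (⊥ : Ideal R).jacobson
  let ev : (Q →ₗ[R] R) →ₗ[R] R ⧸ J := (Algebra.linearMap R (R ⧸ J)).comp (LinearMap.applyₗ m)
  obtain ⟨n, v, hv⟩ := Submodule.fg_iff_exists_fin_generating_family.1 (IsNoetherian.noetherian (LinearMap.range ev))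
  have hmem : ∀ i, v i ∈ LinearMap.range ev := fun i => hv ▸ Submodule.subset_span ⟨i, rfl⟩
  choose φ hφ using hmem
  refine ⟨n, φ, fun x hx => mem_Null.2 fun ψ => (mk_mem_map_iff x _).1 ?_⟩
  have hψ : ev ψ ∈ Submodule.span R (Set.range v) := hv.symm ▸ ⟨ψ, rfl⟩
  have hle : Submodule.span R (Set.range v) ≤ (x.asIdeal.map (Ideal.Quotient.mk J)).restrictScalars R :=
    Submodule.span_le.2 (by rintro _ ⟨i, rfl⟩; rw [← hφ]; exact (mk_mem_map_iff x _).2 (hx i))
  exact hle hψ

/-- Finite-codimensional submodules. -/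
def Big (M : Submodule R Q) : Prop := ∃ B : Finset Q, M ⊔ Submodule.span R (B : Set Q) = ⊤

theorem Big.inf_ker {M : Submodule R Q} (hM : Big M) {n : ℕ} (φ : Fin n → (Q →ₗ[R] R)) :
    ∃ K : Submodule R Q, K ≤ M ∧ Big K ∧ ∀ m ∈ K, ∀ (x : MaximalSpectrum R) i, φ i m ∈ x.asIdeal := by
  classical
  have := isNoetherian_quot (R := R)
  let J := (⊥ : Ideal R).jacobson
  let ψ : Q →ₗ[R] (Fin n → R ⧸ J) := LinearMap.pi fun i => (Algebra.linearMap R (R ⧸ J)).comp (φ i)
  obtain ⟨B, hB⟩ := hM
  obtain ⟨k, v, hv⟩ := Submodule.fg_iff_exists_fin_generating_family.1 (IsNoetherian.noetherian (M.map ψ))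
  have hmem : ∀ i, v i ∈ M.map ψ := fun i => hv ▸ Submodule.subset_span ⟨i, rfl⟩
  choose m hm hmv using hmem
  refine ⟨M ⊓ LinearMap.ker ψ, inf_le_left, ⟨B ∪ Finset.univ.image m, eq_top_iff.2 ?_⟩, fun y hy x i => ?_⟩
  · rw [← hB, Finset.coe_union, Submodule.span_union]
    refine sup_le (fun y hy => ?_) (le_sup_left.trans le_sup_right)
    have hy' : ψ y ∈ (Submodule.span R (Set.range m)).map ψ := by
      rw [Submodule.map_span, ← Set.range_comp, show ψ ∘ m = v from funext hmv, hv]
      exact ⟨y, hy, rfl⟩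
    obtain ⟨z, hz, hzy⟩ := hy'
    have hzM : z ∈ M := Submodule.span_le.2 (by rintro _ ⟨i, rfl⟩; exact hm i) hz
    have h1 : y - z ∈ M ⊓ LinearMap.ker ψ := ⟨sub_mem hy hzM, by simp [hzy]⟩
    have h2 : z ∈ Submodule.span R ((Finset.univ.image m : Finset Q) : Set Q) := by simpa using hz
    simpa using Submodule.add_mem_sup h1 (Submodule.mem_sup_right h2 :
      z ∈ Submodule.span R (B : Set Q) ⊔ Submodule.span R ((Finset.univ.image m : Finset Q) : Set Q))
  · have h := congrFun (LinearMap.mem_ker.1 hy.2) i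
    exact jacobson_le x (Ideal.Quotient.eq_zero_iff_mem.1 h)

theorem exists_nonvanishing (hQ : NF R Q) : ∀ (I : Ideal (R ⧸ (⊥ : Ideal R).jacobson)) (M : Submodule R Q),
    Big M → ∃ m ∈ M, ∀ x : MaximalSpectrum R,
      I ≤ x.asIdeal.map (Ideal.Quotient.mk (⊥ : Ideal R).jacobson) → m ∉ Null x := by
  intro I
  induction I using WellFoundedGT.induction with
  | _ I ih =>
    intro M hM
    let mk := Ideal.Quotient.mk (⊥ : Ideal R).jacobson
    by_cases hne : ∃ x₀ : MaximalSpectrum R, I ≤ x₀.asIdeal.map mk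
    · obtain ⟨x₀, hx₀⟩ := hne
      obtain ⟨B, hB⟩ := id hM
      obtain ⟨m₁, hm₁, hm₁x⟩ : ∃ m ∈ M, m ∉ Null x₀ := by
        by_contra h
        push_neg at h
        exact hQ x₀ B (eq_top_iff.2 (hB ▸ sup_le_sup_right (fun m hm => h m hm) _))
      obtain ⟨n, φ, hφ⟩ := exists_finite_forms (R := R) m₁
      obtain ⟨K, hKM, hK, hKφ⟩ := hM.inf_ker φ
      obtain ⟨i₀, hi₀⟩ : ∃ i, φ i m₁ ∉ x₀.asIdeal := by
        by_contra h
        push_neg at h
        exact hm₁x (hφ x₀ h)
      let I' := I ⊔ Ideal.span (Set.range fun i => mk (φ i m₁))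
      have hlt : I < I' := lt_of_le_of_ne le_sup_left fun h => hi₀ ((mk_mem_map_iff x₀ _).1 (hx₀
        (h ▸ Ideal.mem_sup_right (Ideal.subset_span ⟨i₀, rfl⟩))))
      obtain ⟨m₂, hm₂, hm₂x⟩ := ih I' hlt K hK
      refine ⟨m₁ + m₂, add_mem hm₁ (hKM hm₂), fun x hx hmem => ?_⟩
      by_cases hall : ∀ i, φ i m₁ ∈ x.asIdeal
      · refine hm₂x x (sup_le hx (Ideal.span_le.2 ?_)) ?_
        · rintro _ ⟨i, rfl⟩; exact (mk_mem_map_iff x _).2 (hall i)
        · simpa using sub_mem hmem (hφ x hall)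
      · push_neg at hall
        obtain ⟨i, hi⟩ := hall
        have h := mem_Null.1 hmem (φ i)
        rw [map_add] at h
        exact hi ((Submodule.add_mem_iff_left _ (hKφ m₂ hm₂ x i)).1 h)
    · exact ⟨0, zero_mem _, fun x hx => absurd ⟨x, hx⟩ hne⟩

theorem exists_unimodular (hQ : NF R Q) (s : Q) (M : Submodule R Q) (hM : Submodule.span R {s} ⊔ M = ⊤) :
    ∃ m ∈ M, ∃ φ : Q →ₗ[R] R, φ (s + m) = 1 := by
  classical
  let mk := Ideal.Quotient.mk (⊥ : Ideal R).jacobson
  have hbig : Big M := ⟨{s}, by rw [Finset.coe_singleton, sup_comm]; exact hM⟩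
  obtain ⟨n, φ, hφ⟩ := exists_finite_forms (R := R) s
  obtain ⟨K, hKM, hK, hKφ⟩ := hbig.inf_ker φ
  obtain ⟨m, hm, hmx⟩ := exists_nonvanishing hQ (Ideal.span (Set.range fun i => mk (φ i s))) K hK
  refine ⟨m, hKM hm, ?_⟩
  by_contra h
  have h1 : (1 : R) ∉ LinearMap.range (LinearMap.applyₗ (s + m) : (Q →ₗ[R] R) →ₗ[R] R) :=
    fun ⟨φ, hφ⟩ => h ⟨φ, hφ⟩
  let I₀ : Ideal R := LinearMap.range (LinearMap.applyₗ (s + m) : (Q →ₗ[R] R) →ₗ[R] R)
  obtain ⟨x, hx, hle⟩ := Ideal.exists_le_maximal I₀ (fun htop => h1 (htop.ge (Submodule.mem_top (x := (1 : R)))))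
  have hN : s + m ∈ Null (⟨x, hx⟩ : MaximalSpectrum R) :=
    mem_Null.2 fun ψ => hle (show ψ (s + m) ∈ I₀ from ⟨ψ, rfl⟩)
  have hall : ∀ i, φ i s ∈ x := fun i => by
    have h := mem_Null.1 hN (φ i)
    rw [map_add] at h
    exact (Submodule.add_mem_iff_left _ (hKφ m hm _ i)).1 h
  refine hmx ⟨x, hx⟩ (Ideal.span_le.2 ?_) ?_
  · rintro _ ⟨i, rfl⟩; exact Ideal.mem_map_of_mem _ (hall i)
  · simpa using sub_mem hN (hφ ⟨x, hx⟩ hall)

/-- One step of cancellation. -/
theorem cancel_step (hQ : NF R Q) (s : Q) (K C : Submodule R (R × Q)) (hKC : IsCompl K C)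
    [Module.Free R K] [Module.Finite R K] (hs : ((0, s) : R × Q) ∈ K) :
    ∃ L L' : Submodule R Q, IsCompl L L' ∧ Module.Free R L ∧ Module.Finite R L ∧ s ∈ L := by
  have hC : NF R C := (hQ.of_surjective (LinearMap.snd R R Q) Prod.snd_surjective).of_isCompl hKC
  let p : (R × Q) →ₗ[R] C := C.projectionOnto K hKC.symm
  have hp : Submodule.span R {p (1, 0)} ⊔ LinearMap.range (p ∘ₗ LinearMap.inr R R Q) = ⊤ := by
    refine eq_top_iff.2 fun c _ => ?_
    have hc : p (c : R × Q) = c := Submodule.projectionOnto_apply_left hKC.symm c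
    have e : (c : R × Q) = (c : R × Q).1 • ((1, 0) : R × Q) + (0, (c : R × Q).2) := by simp
    rw [← hc, e, map_add, map_smul]
    exact Submodule.add_mem_sup (Submodule.smul_mem _ _ (Submodule.mem_span_singleton_self _)) ⟨_, rfl⟩
  obtain ⟨_, ⟨q, rfl⟩, φ, hφ⟩ := exists_unimodular hC (p (1, 0)) _ hp
  let Φ : (R × Q) →ₗ[R] R := φ ∘ₗ p
  have hΦe : Φ (1, q) = 1 := by
    refine Eq.trans ?_ hφ
    simp only [Φ, LinearMap.comp_apply, LinearMap.inr_apply, ← map_add]
    simp
  have hΦK : ∀ k ∈ K, Φ k = 0 := fun k hk => by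
    have : p k = 0 := Submodule.projectionOnto_apply_of_mem_right hKC.symm hk
    simp [Φ, this]
  let j : (R × Q) →ₗ[R] Q := LinearMap.snd R R Q - (LinearMap.fst R R Q).smulRight q
  have hj : ∀ v, j v = 0 → Φ v = 0 → v = 0 := fun v hv hΦ => by
    have h2 : v.2 = v.1 • q := by simpa [j, sub_eq_zero] using hv
    have e : v = v.1 • ((1, q) : R × Q) := by ext <;> simp [h2]
    rw [e, map_smul, hΦe, smul_eq_mul, mul_one] at hΦ
    rw [e, hΦ, zero_smul]
  have hjK : Function.Injective (j.domRestrict K) := by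
    rw [← LinearMap.ker_eq_bot, eq_bot_iff]
    rintro ⟨k, hk⟩ h
    exact Subtype.ext (hj k h (hΦK k hk))
  let eK : K ≃ₗ[R] K.map j :=
    (LinearEquiv.ofInjective _ hjK).trans (LinearEquiv.ofEq _ _ (LinearMap.range_domRestrict K j))
  refine ⟨K.map j, (C ⊓ LinearMap.ker Φ).map j, ?_, Module.Free.of_equiv eK, Module.Finite.equiv eK,
    ⟨_, hs, by simp [j]⟩⟩
  refine IsCompl.of_eq ?_ (eq_top_iff.2 fun y _ => ?_)
  · rw [eq_bot_iff]
    rintro _ ⟨⟨k, hk, rfl⟩, c, ⟨hc, hcΦ⟩, hck⟩
    have h0 : k - c = 0 := hj _ (by rw [map_sub, hck, sub_self]) (by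
      rw [map_sub, hΦK k hk, LinearMap.mem_ker.1 hcΦ, sub_zero])
    have : k ∈ K ⊓ C := ⟨hk, by rwa [sub_eq_zero.1 h0]⟩
    rw [hKC.inf_eq_bot] at this
    simp [(Submodule.mem_bot R).1 this]
  · let u : R × Q := (0, y) - Φ (0, y) • ((1, q) : R × Q)
    have hu : Φ u = 0 := by simp only [u, map_sub, map_smul, hΦe, smul_eq_mul, mul_one, sub_self]
    have hju : j u = y := by simp [u, j]
    obtain ⟨k, hk, c, hc, hkc⟩ := Submodule.mem_sup.1 (hKC.sup_eq_top.ge (Submodule.mem_top (x := u)))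
    have hcΦ : Φ c = 0 := by
      have := congrArg Φ hkc
      rwa [map_add, hΦK k hk, zero_add, hu] at this
    rw [← hju, ← hkc, map_add]
    exact Submodule.add_mem_sup ⟨k, hk, rfl⟩ ⟨c, ⟨hc, hcΦ⟩, rfl⟩

theorem isCompl_map {P' : Type u} [AddCommGroup P'] [Module R P'] (e : Q ≃ₗ[R] P') {K K' : Submodule R Q}
    (h : IsCompl K K') : IsCompl (K.map (e : Q →ₗ[R] P')) (K'.map (e : Q →ₗ[R] P')) :=
  (Submodule.orderIsoMapComap e).isCompl h

/-- A finite free summand containing a given element. -/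
theorem exists_free_summand : ∀ (n : ℕ) (Q : Type u) [AddCommGroup Q] [Module R Q], NF R Q → ∀ s : Q,
    (∃ K K' : Submodule R ((Fin n → R) × Q), IsCompl K K' ∧ Module.Free R K ∧ Module.Finite R K ∧
      ((0, s) : (Fin n → R) × Q) ∈ K) →
    ∃ L L' : Submodule R Q, IsCompl L L' ∧ Module.Free R L ∧ Module.Finite R L ∧ s ∈ L
  | 0, Q, _, _, _, s, ⟨K, K', h, _, _, hs⟩ => by
    let e : ((Fin 0 → R) × Q) ≃ₗ[R] Q := LinearEquiv.uniqueProd
    exact ⟨_, _, isCompl_map e h, Module.Free.of_equiv (e.submoduleMap K), Module.Finite.equiv (e.submoduleMap K),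
      ⟨_, hs, rfl⟩⟩
  | n + 1, Q, _, _, hQ, s, ⟨K, K', h, _, _, hs⟩ => by
    let e : ((Fin (n + 1) → R) × Q) ≃ₗ[R] (R × ((Fin n → R) × Q)) :=
      ((Fin.consLinearEquiv R (fun _ : Fin (n + 1) => R)).symm.prodCongr (LinearEquiv.refl R Q)).trans
        (LinearEquiv.prodAssoc R R (Fin n → R) Q)
    have he : e (0, s) = (0, (0, s)) := by
      simp [e]
      rfl
    have := Module.Free.of_equiv (e.submoduleMap K)
    have := Module.Finite.equiv (e.submoduleMap K)
    obtain ⟨L, L', hL, hLf, hLfin, hsL⟩ := cancel_step (hQ.of_surjective (LinearMap.snd R (Fin n → R) Q)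
      Prod.snd_surjective) ((0, s) : (Fin n → R) × Q) (K.map (e : _ →ₗ[R] _)) _ (isCompl_map e h)
      (he ▸ ⟨_, hs, rfl⟩)
    exact exists_free_summand n Q hQ s ⟨L, L', hL, hLf, hLfin, hsL⟩

end Noeth

section Projective

variable {P : Type u} [AddCommGroup P] [Module R P] [Module.Projective R P]

theorem Null_le_smul (x : MaximalSpectrum R) : (Null x : Submodule R P) ≤ x.asIdeal • ⊤ := by
  intro m hm
  obtain ⟨ι, hι⟩ := Module.projective_def'.1 (inferInstance : Module.Projective R P)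
  have e : m = Finsupp.linearCombination R id (ι m) := (LinearMap.congr_fun hι m).symm
  rw [e, Finsupp.linearCombination_apply]
  exact Submodule.sum_mem _ fun p _ => Submodule.smul_mem_smul (mem_Null.1 hm (Finsupp.lapply p ∘ₗ ι))
    Submodule.mem_top

theorem nf_of_projective (hP : ∀ (m : Ideal R) [m.IsMaximal],
    ¬ Module.Finite (Localization.AtPrime m) (LocalizedModule m.primeCompl P)) : NF R P := by
  classical
  intro x B hB
  have := x.isMaximal
  have hex : ∃ n, ∃ b : Fin n → P, Null x ⊔ Submodule.span R (Set.range b) = ⊤ := by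
    refine ⟨B.card, fun i => (B.equivFin.symm i : P), ?_⟩
    rw [show Set.range (fun i => (B.equivFin.symm i : P)) = (B : Set P) from by
      rw [show (fun i => (B.equivFin.symm i : P)) = (Subtype.val ∘ B.equivFin.symm) from rfl,
        Set.range_comp, Equiv.range_eq_univ, Set.image_univ, Subtype.range_coe]]
    exact hB
  obtain ⟨b, hb⟩ := Nat.find_spec hex
  have hind : Indep x b := by
    intro c hc i
    by_contra hi
    obtain ⟨u, y, hy, huy⟩ := Ideal.IsMaximal.exists_inv x.isMaximal hi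
    obtain ⟨n, hn⟩ : ∃ n, Nat.find hex = n + 1 := ⟨Nat.find hex - 1, by have := i.pos; omega⟩
    let σ : Fin n → Fin (Nat.find hex) := fun l => Fin.cast hn.symm ((Fin.cast hn i).succAbove l)
    refine Nat.find_min hex (show n < Nat.find hex by omega) ⟨b ∘ σ, eq_top_iff.2 (hb.ge.trans ?_)⟩
    refine sup_le le_sup_left (Submodule.span_le.2 ?_)
    rintro _ ⟨l, rfl⟩
    rcases eq_or_ne l i with rfl | hl
    · have e : b l = y • b l + u • (∑ j, c j • b j) - u • ∑ j ∈ Finset.univ.erase l, c j • b j := by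
        rw [← Finset.add_sum_erase _ _ (Finset.mem_univ l), smul_add, smul_smul, ← add_assoc, ← add_smul,
          add_comm y, huy, one_smul]
        abel
      rw [SetLike.mem_coe, e]
      refine sub_mem (Submodule.mem_sup_left (add_mem (smul_le_Null x (Submodule.smul_mem_smul hy Submodule.mem_top))
        (Submodule.smul_mem _ _ hc))) (Submodule.mem_sup_right (Submodule.smul_mem _ _ (Submodule.sum_mem _ fun j hj => ?_)))
      refine Submodule.smul_mem _ _ (Submodule.subset_span ?_)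
      obtain ⟨k, hk⟩ := Fin.exists_succAbove_eq (show Fin.cast hn j ≠ Fin.cast hn l from
        fun h => (Finset.mem_erase.1 hj).1 (Fin.cast_injective hn h))
      exact ⟨k, by simp [σ, hk]⟩
    · obtain ⟨k, hk⟩ := Fin.exists_succAbove_eq (show Fin.cast hn l ≠ Fin.cast hn i from
        fun h => hl (Fin.cast_injective hn h))
      exact Submodule.mem_sup_right (Submodule.subset_span ⟨k, by simp [σ, hk]⟩)
  obtain ⟨φ, hφ⟩ := hind.exists_forms
  let N := Matrix.of fun i j => φ i (b j)
  let D := N.det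
  let w : P →ₗ[R] P := D • LinearMap.id - ∑ i, ∑ j, N.adjugate i j • (φ j).smulRight (b i)
  have hw : ∀ y, w y = D • y - ∑ i, (Matrix.mulVec N.adjugate fun j => φ j y) i • b i := by
    intro y
    simp only [w, LinearMap.sub_apply, LinearMap.smul_apply, LinearMap.id_apply, LinearMap.sum_apply,
      LinearMap.smulRight_apply, smul_smul, Matrix.mulVec, dotProduct, Finset.sum_smul]
  have hφw : ∀ y k, φ k (w y) = 0 := by
    intro y k
    rw [hw, map_sub, map_smul, map_sum]
    have : ∑ i, φ k ((Matrix.mulVec N.adjugate fun j => φ j y) i • b i) =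
        Matrix.mulVec N (Matrix.mulVec N.adjugate fun j => φ j y) k := by
      simp only [map_smul, smul_eq_mul, Matrix.mulVec, dotProduct, N, Matrix.of_apply]
      exact Finset.sum_congr rfl fun i _ => mul_comm _ _
    rw [this, Matrix.mulVec_mulVec, Matrix.mul_adjugate, Matrix.smul_mulVec, Matrix.one_mulVec]
    simp [D]
  have hwb : ∀ l, w (b l) = 0 := by
    intro l
    rw [hw]
    have : (Matrix.mulVec N.adjugate fun j => φ j (b l)) = fun i => (N.adjugate * N) i l := rfl
    rw [this, Matrix.adjugate_mul]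
    simp [D, Matrix.one_apply]
  have hwN : ∀ y, w y ∈ Null x := by
    intro y
    obtain ⟨n, hn, z, hz, rfl⟩ := Submodule.mem_sup.1 (hb.ge (Submodule.mem_top (x := y)))
    have hz0 : Submodule.span R (Set.range b) ≤ LinearMap.ker w :=
      Submodule.span_le.2 (by rintro _ ⟨l, rfl⟩; exact hwb l)
    rw [map_add, LinearMap.mem_ker.1 (hz0 hz), add_zero]
    exact map_Null_le w x ⟨n, hn, rfl⟩
  obtain ⟨ι, hι⟩ := Module.projective_def'.1 (inferInstance : Module.Projective R P)
  let q := Ideal.Quotient.mk x.asIdeal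
  have key : ∀ y : P, ∃ d : R, d ∉ x.asIdeal ∧ d • y ∈ Submodule.span R (Set.range b) := by
    intro y
    let z := w y
    have hwz : w z = D • z := by
      rw [hw, show (fun j => φ j z) = 0 from funext (hφw y), Matrix.mulVec_zero]
      simp
    let T := (ι z).support
    let Mx : Matrix T T R := Matrix.of fun s t => ι (w (s : P)) (t : P)
    let a : T → R := fun t => ι z (t : P)
    have hMx : ∀ s t, Mx s t ∈ x.asIdeal := fun s t =>
      mem_Null.1 (hwN (s : P)) (Finsupp.lapply (t : P) ∘ₗ ι)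
    have hrel : Matrix.vecMul a (D • (1 : Matrix T T R) - Mx) = 0 := by
      rw [Matrix.vecMul_sub, Matrix.vecMul_smul, Matrix.vecMul_one, sub_eq_zero]
      funext t
      have h1 : ι (w z) (t : P) = D * ι z (t : P) := by rw [hwz, map_smul]; rfl
      rw [Pi.smul_apply, smul_eq_mul, ← h1]
      conv_lhs => rw [← show Finsupp.linearCombination R id (ι z) = z from LinearMap.congr_fun hι z]
      rw [Finsupp.linearCombination_apply, Finsupp.sum, map_sum, map_sum, Finsupp.finset_sum_apply]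
      simp only [Matrix.vecMul, dotProduct, Mx, Matrix.of_apply, a, map_smul, Finsupp.smul_apply, smul_eq_mul, id]
      exact (Finset.sum_coe_sort T fun s => ι z s * ι (w s) (t : P)).symm
    let d := (D • (1 : Matrix T T R) - Mx).det
    have hd : d ∉ x.asIdeal := by
      intro h
      have e : q.mapMatrix (D • (1 : Matrix T T R) - Mx) = q D • (1 : Matrix T T (R ⧸ x.asIdeal)) := by
        ext s t
        simp only [RingHom.mapMatrix_apply, Matrix.map_apply, Matrix.sub_apply, Matrix.smul_apply, smul_eq_mul]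
        rw [map_sub, map_mul, Ideal.Quotient.eq_zero_iff_mem.2 (hMx s t), sub_zero]
        by_cases hst : s = t <;> simp [Matrix.one_apply, hst]
      have h2 := Ideal.Quotient.eq_zero_iff_mem.2 h
      change q d = 0 at h2
      rw [RingHom.map_det, e, Matrix.det_smul, Matrix.det_one, mul_one] at h2
      exact hφ (Ideal.Quotient.eq_zero_iff_mem.1 (eq_zero_of_pow_eq_zero h2))
    have hzero : d • ι z = 0 := by
      ext p
      by_cases hp : p ∈ T
      · have h3 := congrArg (fun v => Matrix.vecMul v (D • (1 : Matrix T T R) - Mx).adjugate) hrel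
        simp only [Matrix.vecMul_vecMul, Matrix.mul_adjugate, Matrix.vecMul_smul, Matrix.vecMul_one,
          Matrix.zero_vecMul] at h3
        simpa [a] using congrFun h3 ⟨p, hp⟩
      · simp [Finsupp.notMem_support_iff.1 hp]
    have hdz : d • z = 0 := by
      have h4 := congrArg (Finsupp.linearCombination R id) hzero
      rw [map_smul, map_zero, show Finsupp.linearCombination R id (ι z) = z from LinearMap.congr_fun hι z] at h4
      exact h4
    refine ⟨d * D, fun h => (x.isMaximal.isPrime.mem_or_mem h).elim hd hφ, ?_⟩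
    have e : (d * D) • y = d • z + d • ∑ i, (Matrix.mulVec N.adjugate fun j => φ j y) i • b i := by
      rw [← smul_add, mul_smul]
      simp [z, hw]
    rw [e, hdz, zero_add]
    exact Submodule.smul_mem _ _ (Submodule.sum_mem _ fun i _ => Submodule.smul_mem _ _ (Submodule.subset_span ⟨i, rfl⟩))
  refine hP x.asIdeal ⟨⟨Finset.univ.image (fun i => LocalizedModule.mk (b i) 1), eq_top_iff.2 fun v _ => ?_⟩⟩
  induction v using LocalizedModule.induction_on with
  | _ y u =>
    obtain ⟨d, hd, hdy⟩ := key y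
    let L := Localization.AtPrime x.asIdeal
    let du : x.asIdeal.primeCompl := u * ⟨d, hd⟩
    obtain ⟨c, hc⟩ := IsLocalization.map_units L du
    have h1 : (du : R) • LocalizedModule.mk y u = LocalizedModule.mk (d • y) 1 := by
      rw [LocalizedModule.smul'_mk, LocalizedModule.mk_eq]
      exact ⟨1, by simp [du, Submonoid.smul_def, mul_smul]⟩
    have h2 : LocalizedModule.mk y u = ((c⁻¹ : Units L) : L) • LocalizedModule.mk (d • y) 1 := by
      rw [← h1, ← algebraMap_smul L (du : R), ← hc, smul_smul, Units.inv_mul, one_smul]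
    rw [h2]
    refine Submodule.smul_mem _ _ ?_
    have h3 : LocalizedModule.mk (d • y) 1 ∈ (Submodule.span R (Set.range b)).map (LocalizedModule.mkLinearMap x.asIdeal.primeCompl P) :=
      ⟨_, hdy, rfl⟩
    rw [Submodule.map_span, ← Set.range_comp] at h3
    rw [Finset.coe_image, Finset.coe_univ, Set.image_univ]
    exact Submodule.span_le_restrictScalars R L _ h3

variable [IsNoetherianRing (R ⧸ (⊥ : Ideal R).jacobson)]

theorem exists_free_summand_of_projective (hP : NF R P) (s : P) :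
    ∃ L L' : Submodule R P, IsCompl L L' ∧ Module.Free R L ∧ Module.Finite R L ∧ s ∈ L := by
  classical
  obtain ⟨ι, hι⟩ := Module.projective_def'.1 (inferInstance : Module.Projective R P)
  let π : (P →₀ R) →ₗ[R] P := Finsupp.linearCombination R id
  have hπι : ∀ x, π (ι x) = x := LinearMap.congr_fun hι
  let T := (ι s).support
  let en : Fin T.card ≃ T := T.equivFin.symm
  let q : (P →₀ R) →ₗ[R] (Fin T.card → R) := LinearMap.pi fun i => Finsupp.lapply (en i : P)
  let j : (Fin T.card → R) →ₗ[R] (P →₀ R) :=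
    ∑ i, (Finsupp.lsingle (en i : P)) ∘ₗ LinearMap.proj i
  have hjq : j (q (ι s)) = ι s := by
    simp only [j, q, LinearMap.sum_apply, LinearMap.comp_apply, LinearMap.pi_apply,
      LinearMap.proj_apply, Finsupp.lapply_apply, Finsupp.lsingle_apply]
    rw [← Equiv.sum_comp T.equivFin (fun i => Finsupp.single (en i : P) (ι s (en i : P)))]
    simp only [en, Equiv.symm_apply_apply]
    rw [Finset.sum_coe_sort T (fun i => Finsupp.single i (ι s i))]
    exact (ι s).sum_single
  let a : (Fin T.card → R) →ₗ[R] (Fin T.card → R) × P :=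
    (LinearMap.id - q ∘ₗ ι ∘ₗ π ∘ₗ j).prod (π ∘ₗ j)
  let b : (Fin T.card → R) × P →ₗ[R] (Fin T.card → R) := LinearMap.coprod LinearMap.id (q ∘ₗ ι)
  have hba : ∀ v, b (a v) = v := fun v => by simp [a, b]
  let e := LinearEquiv.ofLeftInverse hba
  refine exists_free_summand T.card P hP s ⟨LinearMap.range a, LinearMap.ker b, ?_, Module.Free.of_equiv e,
    Module.Finite.equiv e, ⟨q (ι s), by simp [a, hjq, hπι]⟩⟩
  refine IsCompl.of_eq ?_ ?_
  · rw [eq_bot_iff]
    rintro _ ⟨⟨v, rfl⟩, h⟩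
    rw [SetLike.mem_coe, LinearMap.mem_ker, hba] at h
    simp [h]
  · rw [eq_top_iff]
    intro v _
    refine Submodule.mem_sup.2 ⟨a (b v), ⟨_, rfl⟩, v - a (b v), ?_, by abel⟩
    rw [LinearMap.mem_ker, map_sub, hba, sub_self]

end Projective

end GrothLib.SerreSplit
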